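import Cfsg.Agent.Lib.Glauberman.Solvable
import Cfsg.Agent.Lib.Glauberman.Internal
import Cfsg.Agent.Lib.BlocksChars5.Basic
import Cfsg.Agent.Lib.Clifford.Basic
import Mathlib.GroupTheory.SchurZassenhaus

/-!
# Invariant characters over a central linear character
-/

set_option autoImplicit false

namespace Cfsg.Agent.Lib.InvariantAbove.Central

open Cfsg.Agent.Lib.Characters.Basic Cfsg.Agent.Lib.Characters.Linear
open Cfsg.Agent.Lib Cfsg.Agent.Lib.Induced.Basic Cfsg.Agent.Lib.BlocksChars5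

universe u

variable {Q : Type u} [Group Q] [Fintype Q]

/-- `Z` central in the normal subgroup `H`, solvable `Q/H` of order prime to `[H : Z]`: a linear
character of `Z` lies under a `Q`-invariant irreducible character of `H`. -/
theorem exists_central_inv (Z H : Subgroup Q) [hH : H.Normal] [Fintype H] (hZH : Z ≤ H)
    (hcent : Z ≤ Subgroup.center Q) (ε : Z →* ℂˣ) (hcop : H.index.Coprime (Z.relIndex H))
    (hsolv : Group.IsSolvable (Q ⧸ H)) :
    ∃ β : Cfsg.IrrCharacter H,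
      (∀ z : Z, (β : H → ℂ) ⟨z, hZH z.2⟩ = (ε z : ℂ) * (β : H → ℂ) 1) ∧
      ∀ (q : Q) (h : H), (β : H → ℂ) ⟨q * h * q⁻¹, hH.conj_mem h h.2 q⟩ = (β : H → ℂ) h := by
  classical
  have hcz : ∀ z ∈ Z, ∀ q : Q, q * z = z * q := fun z hz =>
    Subgroup.mem_center_iff.mp (hcent hz)
  -- the part of `Z` for the primes of the index of `H`
  let Zp : Subgroup Q :=
    { carrier := {z | z ∈ Z ∧ ∀ p : ℕ, p.Prime → p ∣ orderOf z → p ∣ H.index}
      one_mem' := ⟨Z.one_mem, fun p hp hd => by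
        rw [orderOf_one] at hd
        exact absurd (Nat.dvd_one.mp hd) hp.ne_one⟩
      mul_mem' := by
        rintro a b ⟨ha, ha'⟩ ⟨hb, hb'⟩
        refine ⟨Z.mul_mem ha hb, fun p hp hd => ?_⟩
        have hc : Commute a b := (hcz b hb a)
        have h1 := hd.trans (hc.orderOf_mul_dvd_lcm.trans (Nat.lcm_dvd_mul _ _))
        rcases hp.dvd_mul.mp h1 with h2 | h2
        exacts [ha' p hp h2, hb' p hp h2]
      inv_mem' := by
        rintro a ⟨ha, ha'⟩
        exact ⟨Z.inv_mem ha, by simpa [orderOf_inv] using ha'⟩ }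
  have hZpZ : Zp ≤ Z := fun z hz => hz.1
  have hZpH : Zp ≤ H := hZpZ.trans hZH
  let W : Subgroup H := Zp.subgroupOf H
  have hWc : ∀ w ∈ W, ∀ h : H, h * w = w * h := fun w hw h =>
    Subtype.ext (hcz _ (hZpZ hw) _)
  haveI : W.Normal := ⟨fun w hw h => by rwa [hWc w hw h, mul_inv_cancel_right]⟩
  -- primes of the index of `H` do not divide `[H : Zp]`
  have hW : ∀ p : ℕ, p.Prime → p ∣ H.index → ¬ p ∣ W.index := by
    intro p hp hpm hpd
    have hsplit : W.index = Zp.relIndex Z * Z.relIndex H :=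
      (Subgroup.relIndex_mul_relIndex Zp Z H hZpZ hZH).symm
    rw [hsplit] at hpd
    rcases hp.dvd_mul.mp hpd with h1 | h1
    · haveI := Fact.mk hp
      let W' : Subgroup Z := Zp.subgroupOf Z
      haveI : W'.Normal := ⟨fun w hw h => by
        have : h * w = w * h := Subtype.ext (hcz _ w.2 _)
        rwa [this, mul_inv_cancel_right]⟩
      obtain ⟨x, hx⟩ := exists_prime_orderOf_dvd_card' (G := Z ⧸ W') p
        (by rwa [← Subgroup.index_eq_card])
      obtain ⟨z, rfl⟩ := QuotientGroup.mk_surjective x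
      have hz : z ∉ W' := fun hz => by
        rw [(QuotientGroup.eq_one_iff z).mpr hz, orderOf_one] at hx
        exact hp.ne_one hx.symm
      have hzp : ((z : Q) ^ p) ∈ Zp := by
        have h2 := pow_orderOf_eq_one (z : Z ⧸ W')
        rw [hx, ← QuotientGroup.mk_pow, QuotientGroup.eq_one_iff] at h2
        simpa [W', Subgroup.mem_subgroupOf] using h2
      refine hz (show (z : Q) ∈ Zp from ⟨z.2, fun r hr hd => ?_⟩)
      have h3 : orderOf (z : Q) ∣ p * orderOf ((z : Q) ^ p) := by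
        apply orderOf_dvd_of_pow_eq_one
        rw [pow_mul, pow_orderOf_eq_one]
      rcases hr.dvd_mul.mp (hd.trans h3) with h4 | h4
      · exact ((Nat.prime_dvd_prime_iff_eq hr hp).mp h4) ▸ hpm
      · exact hzp.2 r hr h4
    · exact hp.ne_one (Nat.eq_one_of_dvd_coprimes hcop hpm h1)
  have hWprimes : ∀ p : ℕ, p.Prime → p ∣ Nat.card W → p ∣ H.index := by
    intro p hp hd
    haveI := Fact.mk hp
    obtain ⟨x, hx⟩ := exists_prime_orderOf_dvd_card' (G := W) p hd
    refine (x.2 : ((x : H) : Q) ∈ Zp).2 p hp ?_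
    show p ∣ orderOf ((x : H) : Q)
    rw [Subgroup.orderOf_coe, Subgroup.orderOf_coe, hx]
  have hWcop : (Nat.card W).Coprime W.index :=
    Nat.coprime_of_dvd fun p hp h1 h2 => hW p hp (hWprimes p hp h1) h2
  obtain ⟨K₀, hK₀⟩ := Subgroup.exists_right_complement'_of_coprime hWcop
  -- the product decomposition of `H`
  let f : W × K₀ →* H :=
    { toFun := fun x => (x.1 : H) * (x.2 : H)
      map_one' := mul_one _
      map_mul' := fun a b => by
        show ((a.1 : H) * b.1) * ((a.2 : H) * b.2) = ((a.1 : H) * a.2) * ((b.1 : H) * b.2)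
        rw [mul_assoc, mul_assoc, ← mul_assoc (b.1 : H), ← hWc b.1 b.1.2 a.2, mul_assoc] }
  have hf : Function.Bijective f := hK₀
  let e : W × K₀ ≃* H := MulEquiv.ofBijective f hf
  haveI hK₀n : K₀.Normal := ⟨fun k hk h => by
    obtain ⟨⟨w, k'⟩, rfl⟩ := hf.2 h
    show (w : H) * k' * k * ((w : H) * k')⁻¹ ∈ K₀
    rw [show (w : H) * k' * k * ((w : H) * k')⁻¹ = (w : H) * ((k' : H) * k * (k' : H)⁻¹) *
      (w : H)⁻¹ by group, ← hWc w w.2, mul_inv_cancel_right]
    exact K₀.mul_mem (K₀.mul_mem k'.2 hk) (K₀.inv_mem k'.2)⟩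
  have hK₀idx : K₀.index = Nat.card W := hK₀.index_eq_card
  have hK₀card : Nat.card K₀ = W.index := hK₀.symm.index_eq_card.symm
  let K : Subgroup Q := K₀.map H.subtype
  have hKH : K ≤ H := Subgroup.map_subtype_le _
  have hKcard : Nat.card K = W.index := by
    rw [Subgroup.card_map_of_injective H.subtype_injective, hK₀card]
  have hmemK : ∀ x : H, (orderOf x).Coprime (Nat.card W) → x ∈ K₀ := by
    intro x hx
    obtain ⟨m, hm⟩ := exists_pow_eq_self_of_coprime hx.symm
    rw [← hm]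
    exact K₀.pow_mem (hK₀idx ▸ K₀.pow_index_mem x) m
  haveI hKn : K.Normal := ⟨fun k hk q => by
    obtain ⟨k₀, hk₀, rfl⟩ := hk
    refine ⟨⟨q * k₀ * q⁻¹, hH.conj_mem _ k₀.2 q⟩, hmemK _ ?_, rfl⟩
    rw [← Subgroup.orderOf_coe]
    show (orderOf (q * (k₀ : Q) * q⁻¹)).Coprime _
    have hoq : orderOf (q * (k₀ : Q) * q⁻¹) = orderOf (k₀ : Q) :=
      orderOf_injective (MulAut.conj q).toMonoidHom (MulAut.conj q).injective _
    rw [hoq, Subgroup.orderOf_coe]
    refine Nat.Coprime.coprime_dvd_left ?_ (hK₀card ▸ hWcop.symm : (Nat.card K₀).Coprime _)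
    rw [← Subgroup.orderOf_mk k₀ hk₀]
    exact orderOf_dvd_natCard _⟩
  have hKidx : K.index = Nat.card W * H.index := by
    rw [← Subgroup.relIndex_mul_index hKH, ← hK₀idx]
    congr 1
    rw [Subgroup.relIndex, Subgroup.subgroupOf, Subgroup.comap_map_eq_self_of_injective
      H.subtype_injective]
  have hKcop : (Nat.card K).Coprime K.index := by
    rw [hKcard, hKidx]
    exact Nat.Coprime.mul_right hWcop.symm
      (Nat.coprime_of_dvd fun p hp h1 h2 => hW p hp h2 h1)
  obtain ⟨S, hS⟩ := Subgroup.exists_right_complement'_of_coprime hKcop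
  -- `S` is solvable
  haveI hSsolv : Group.IsSolvable S := by
    let g : S →* Q ⧸ H := (QuotientGroup.mk' H).comp S.subtype
    have hcomm : ∀ a b : g.ker, a * b = b * a := by
      intro a b
      have haH : ((a : S) : Q) ∈ H := (QuotientGroup.eq_one_iff _).mp a.2
      have hbH : ((b : S) : Q) ∈ H := (QuotientGroup.eq_one_iff _).mp b.2
      obtain ⟨⟨wa, ka⟩, hwa⟩ := hf.2 ⟨_, haH⟩
      obtain ⟨⟨wb, kb⟩, hwb⟩ := hf.2 ⟨_, hbH⟩
      have hquot : ((⟨_, haH⟩ : H) : H ⧸ K₀) * (⟨_, hbH⟩ : H) =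
          ((⟨_, hbH⟩ : H) : H ⧸ K₀) * (⟨_, haH⟩ : H) := by
        rw [← hwa, ← hwb]
        show (((wa : H) * ka : H) : H ⧸ K₀) * ((wb : H) * kb : H) =
          (((wb : H) * kb : H) : H ⧸ K₀) * ((wa : H) * ka : H)
        simp only [QuotientGroup.mk_mul, (QuotientGroup.eq_one_iff _).mpr ka.2,
          (QuotientGroup.eq_one_iff _).mpr kb.2, mul_one]
        rw [← QuotientGroup.mk_mul, ← QuotientGroup.mk_mul, hWc wb wb.2]
      rw [← QuotientGroup.mk_mul, ← QuotientGroup.mk_mul, QuotientGroup.eq] at hquot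
      have h1 : ((a : S) * b : S)⁻¹ * ((b : S) * a) = 1 := by
        refine Subtype.ext (Subgroup.mem_bot.mp ?_)
        rw [← hS.disjoint.eq_bot]
        exact ⟨⟨_, hquot, rfl⟩, SetLike.coe_mem _⟩
      exact Subtype.ext (inv_mul_eq_one.mp h1)
    haveI : Group.IsSolvable g.ker := Group.isSolvable_of_comm hcomm
    exact Group.isSolvable_of_ker_le_range g.ker.subtype g (by rw [Subgroup.range_subtype])
  -- apply the coprime statement
  letI := Fintype.ofFinite K
  let Z' : Subgroup K := Z.subgroupOf K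
  letI := Fintype.ofFinite Z'
  let j : Z' →* Z :=
    { toFun := fun z => ⟨((z : K) : Q), z.2⟩
      map_one' := rfl
      map_mul' := fun _ _ => rfl }
  let θ : Cfsg.IrrCharacter Z' := linChar (ε.comp j)
  let act : S →* MulAut K := Glauberman.actOf (fun s _ k hk => hKn.conj_mem k hk s)
  have hScard : Nat.card S = K.index := hS.symm.index_eq_card.symm
  obtain ⟨χ, hχinv, hχθ⟩ := Glauberman.exists_inv_over (G := K) (N := Z') act 1 Z'.subtype
    (by rw [hScard]; exact hKcop) Z'.subtype_injective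
    (fun s z => by
      apply Subtype.ext
      show ((z : K) : Q) = (s : Q) * (z : K) * (s : Q)⁻¹
      rw [hcz ((z : K) : Q) z.2 s, mul_inv_cancel_right])
    (θ := θ) (fun _ _ => rfl)
  have hχθ' : Cfsg.classInner (fun z : Z' => (χ : K → ℂ) z) θ ≠ 0 := by
    have := Glauberman.coe_mult Z'.subtype χ θ
    rw [show (fun z : Z' => (χ : K → ℂ) z) = fun z => (χ : K → ℂ) (Z'.subtype z) from rfl, this,
      Nat.cast_ne_zero]
    exact hχθ
  haveI : Z'.Normal := ⟨fun z hz k => by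
    have : k * z = z * k := Subtype.ext (hcz _ hz _)
    rwa [this, mul_inv_cancel_right]⟩
  have hres := Clifford.Basic.restrict_eq_smul Z' χ.2 θ hχθ' fun k => funext fun z => by
    rw [Clifford.Basic.conjC_apply]
    refine congrArg _ (Subtype.ext ?_)
    have : k * (z : K) = z * k := Subtype.ext (hcz _ z.2 _)
    show k * (z : K) * k⁻¹ = z
    rw [this, mul_inv_cancel_right]
  have hscal : ∀ z : Z', (χ : K → ℂ) z = (χ : K → ℂ) 1 * (ε (j z) : ℂ) := by
    intro z
    have h1 : (χ : K → ℂ) 1 = Cfsg.classInner (fun z : Z' => (χ : K → ℂ) z) θ := by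
      have := congrFun hres 1
      rw [Pi.smul_apply, smul_eq_mul] at this
      simpa [θ, linChar_apply] using this
    have h2 := congrFun hres z
    rw [Pi.smul_apply, smul_eq_mul, ← h1] at h2
    simpa [θ, linChar_apply] using h2
  -- the character
  let eK : K₀ ≃* K := K₀.equivMapOfInjective H.subtype H.subtype_injective
  have hecoe : ∀ k : K₀, ((eK k : K) : Q) = ((k : H) : Q) := fun k => rfl
  let p₂ : H →* K := (eK.toMonoidHom.comp (MonoidHom.snd W K₀)).comp e.symm.toMonoidHom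
  let p₁ : H →* Z :=
    ({ toFun := fun w => ⟨((w : H) : Q), hZpZ w.2⟩
       map_one' := rfl
       map_mul' := fun _ _ => rfl } : W →* Z).comp
      ((MonoidHom.fst W K₀).comp e.symm.toMonoidHom)
  have hp : ∀ (w : W) (k : K₀), p₂ ((w : H) * k) = eK k ∧
      ((p₁ ((w : H) * k) : Z) : Q) = ((w : H) : Q) := by
    intro w k
    have : e.symm ((w : H) * k) = (w, k) := e.symm_apply_eq.mpr rfl
    constructor
    · show eK (e.symm ((w : H) * k)).2 = eK k
      rw [this]
    · show (((e.symm ((w : H) * k)).1 : H) : Q) = _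
      rw [this]
  have hp2 : Function.Surjective p₂ := fun k => by
    obtain ⟨k₀, rfl⟩ := eK.surjective k
    exact ⟨_, by simpa using (hp 1 k₀).1⟩
  let β : Cfsg.IrrCharacter H :=
    ⟨(linChar (ε.comp p₁) : H → ℂ) * ((χ : K → ℂ) ∘ p₂),
      isIrrCharacter_linear_mul (isCharacter_irr _) (by simp [linChar_apply])
        (isIrrCharacter_comp p₂ hp2 χ.2)⟩
  have hβ : ∀ h : H, (β : H → ℂ) h = (ε (p₁ h) : ℂ) * (χ : K → ℂ) (p₂ h) := fun h => rfl
  refine ⟨β, fun z => ?_, fun q h => ?_⟩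
  · obtain ⟨⟨w, k⟩, hwk⟩ := hf.2 ⟨z, hZH z.2⟩
    have hwk' : (w : H) * k = ⟨z, hZH z.2⟩ := hwk
    have hkZ : ((k : H) : Q) ∈ Z := by
      have h1 := congrArg Subtype.val hwk'
      simp only [Subgroup.coe_mul] at h1
      rw [eq_inv_mul_of_mul_eq h1]
      exact Z.mul_mem (Z.inv_mem (hZpZ w.2)) z.2
    have hkZ' : eK k ∈ Z' := hkZ
    rw [hβ, hβ, ← hwk', (hp w k).1, hscal ⟨eK k, hkZ'⟩, map_one, map_one, map_one,
      Units.val_one, one_mul, ← mul_assoc, mul_comm ((ε _ : ℂˣ) : ℂ) ((χ : K → ℂ) 1), mul_assoc,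
      mul_comm _ ((χ : K → ℂ) 1), ← Units.val_mul, ← map_mul]
    congr 3
    apply Subtype.ext
    rw [Subgroup.coe_mul, (hp w k).2]
    exact congrArg Subtype.val hwk'
  · obtain ⟨⟨w, k⟩, rfl⟩ := hf.2 h
    let k' : K₀ := eK.symm ⟨q * (eK k : K) * q⁻¹, hKn.conj_mem _ (eK k).2 q⟩
    have hk' : ((k' : H) : Q) = q * ((k : H) : Q) * q⁻¹ := by
      rw [← hecoe]
      show ((eK (eK.symm _) : K) : Q) = _
      rw [MulEquiv.apply_symm_apply]
      rfl
    have heq : (⟨q * ((f (w, k) : H) : Q) * q⁻¹, hH.conj_mem _ (f (w, k)).2 q⟩ : H) =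
        (w : H) * k' := by
      apply Subtype.ext
      show q * (((w : H) : Q) * ((k : H) : Q)) * q⁻¹ = ((w : H) : Q) * ((k' : H) : Q)
      rw [hk', ← mul_assoc q, hcz ((w : H) : Q) (hZpZ w.2) q]
      group
    rw [heq, hβ, hβ, show f (w, k) = (w : H) * k from rfl, (hp w k).1, (hp w k').1]
    have h1 : p₁ ((w : H) * k') = p₁ ((w : H) * k) :=
      Subtype.ext ((hp w k').2.trans (hp w k).2.symm)
    rw [h1]
    congr 1
    obtain ⟨⟨a, s⟩, rfl⟩ := hS.2 q
    have h2 : eK k' = a * act s (eK k) * a⁻¹ := by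
      apply Subtype.ext
      rw [hecoe, hk', ← hecoe]
      show (a : Q) * s * (eK k : K) * ((a : Q) * s)⁻¹ =
        (a : Q) * ((s : Q) * (eK k : K) * (s : Q)⁻¹) * (a : Q)⁻¹
      group
    rw [h2, isClassFunction_irr χ (act s (eK k)) a]
    exact hχinv s (eK k)

end Cfsg.Agent.Lib.InvariantAbove.Central
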