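import Cfsg.Agent.Lib.BlocksChars5.Restrict
import Mathlib.GroupTheory.Solvable

/-!
# Invariant characters above an invariant character, solvable quotient

`exists_inv`: `N` normal in `G` with solvable quotient, `S` acts on `G` leaving `N` invariant, a
normal subgroup `S₀` of index prime to `[G : N]` acts by inner automorphisms from `N`; then an
`S`- and `G`-invariant irreducible character of `N` lies under an `S`-invariant one of `G`.
-/

set_option autoImplicit false

namespace Cfsg.Agent.Lib.InvariantAbove.Solvable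

open scoped ComplexConjugate
open Cfsg.Agent.Lib.Characters.Basic Cfsg.Agent.Lib.Characters.Linear
open Cfsg.Agent.Lib Cfsg.Agent.Lib.Induced.Basic Cfsg.Agent.Lib.BlocksChars5
open Cfsg.Agent.Lib.Clifford.Basic

universe u w

variable {G : Type u} [Group G] [Fintype G]

/-- With commutative quotient, characters over an invariant one differ by linear characters. -/
theorem exists_mul_linear (N : Subgroup G) [N.Normal] [Fintype N]
    (hab : ∀ a b : G, a * b * a⁻¹ * b⁻¹ ∈ N) (θ : Cfsg.IrrCharacter N)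
    (hinv : ∀ g, conjC N g θ = (θ : N → ℂ)) (χ χ' : Cfsg.IrrCharacter G)
    (h : Cfsg.classInner (fun n : N => (χ : G → ℂ) n) θ ≠ 0)
    (h' : Cfsg.classInner (fun n : N => (χ' : G → ℂ) n) θ ≠ 0) :
    ∃ lam : G →* ℂˣ, (∀ n ∈ N, lam n = 1) ∧
      ∀ g : G, (χ' : G → ℂ) g = (lam g : ℂ) * (χ : G → ℂ) g := by
  classical
  have := Fintype.ofFinite (Cfsg.IrrCharacter G)
  have hres := restrict_eq_smul N χ.2 θ h hinv
  set e := Cfsg.classInner (fun n : N => (χ : G → ℂ) n) θ with he
  have hprod : (fun g => Cfsg.indFun N (fun _ : N => (1 : ℂ)) g * (χ : G → ℂ) g) =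
      e • Cfsg.indFun N (θ : N → ℂ) := by
    rw [← indFun_mul_restrict N (fun _ : N => (1 : ℂ)) (isClassFunction_irr χ), ← indFun_smul]
    congr 1
    rw [← hres]
    funext n
    exact one_mul _
  have hne : Cfsg.classInner (fun g => Cfsg.indFun N (fun _ : N => (1 : ℂ)) g * (χ : G → ℂ) g)
      χ' ≠ 0 := by
    rw [hprod, classInner_smul_left, frobenius_reciprocity N _ (isClassFunction_irr χ')]
    exact mul_ne_zero h (classInner_ne_zero_symm h')
  have hind : Cfsg.IsClassFunction G (Cfsg.indFun N (fun _ : N => (1 : ℂ))) :=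
    isClassFunction_indFun N _
  have hdec := Characters.Complete.classFunction_eq_sum hind
  obtain ⟨β, hβ, hβ'⟩ : ∃ β : Cfsg.IrrCharacter G,
      Cfsg.classInner (Cfsg.indFun N (fun _ : N => (1 : ℂ))) β ≠ 0 ∧
      Cfsg.classInner ((β : G → ℂ) * (χ : G → ℂ)) χ' ≠ 0 := by
    by_contra hcon
    push Not at hcon
    apply hne
    have : (fun g => Cfsg.indFun N (fun _ : N => (1 : ℂ)) g * (χ : G → ℂ) g) =
        ∑ β : Cfsg.IrrCharacter G, Cfsg.classInner (Cfsg.indFun N (fun _ : N => (1 : ℂ))) β •
          ((β : G → ℂ) * (χ : G → ℂ)) := by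
      funext g
      conv_lhs => rw [hdec]
      simp [Finset.sum_apply, Finset.sum_mul, mul_assoc]
    rw [this, classInner_sum_left]
    refine Finset.sum_eq_zero fun β _ => ?_
    rw [classInner_smul_left]
    by_cases hb : Cfsg.classInner (Cfsg.indFun N (fun _ : N => (1 : ℂ))) β = 0
    · rw [hb, zero_mul]
    · rw [hcon β hb, mul_zero]
  have hker : N ≤ Basic.charKer β := fun n hn => by
    have := Clifford.Gallagher.apply_mul_of_over_one N β hβ ⟨n, hn⟩ 1
    rw [mul_one] at this
    exact this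
  obtain ⟨β', hβ''⟩ := Basic.exists_deflate β N hker
  have hβ1 : (β : G → ℂ) 1 = 1 := by
    rw [← hβ'', Basic.inflate_apply, QuotientGroup.mk_one]
    refine Basic.degree_eq_one_of_comm β' fun a b => ?_
    obtain ⟨a, rfl⟩ := QuotientGroup.mk_surjective a
    obtain ⟨b, rfl⟩ := QuotientGroup.mk_surjective b
    rw [← QuotientGroup.mk_mul, ← QuotientGroup.mk_mul, eq_comm, QuotientGroup.eq]
    have h1 := hab a⁻¹ b⁻¹
    rw [inv_inv, inv_inv] at h1
    simpa [mul_assoc] using h1
  refine ⟨degOneHom (isCharacter_irr β) hβ1, fun n hn => Units.ext ?_, fun g => ?_⟩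
  · rw [degOneHom_apply, Units.val_one, ← hβ1]
    exact hker hn
  · rw [degOneHom_apply]
    have hirr := isIrrCharacter_linear_mul (isCharacter_irr β) hβ1 χ.2
    by_contra hne'
    refine hβ' (classInner_irr_of_ne (χ := ⟨_, hirr⟩) fun e' => hne' ?_)
    rw [← e']
    rfl

section action

variable {S : Type w} [Group S] (act : S →* MulAut G) (N : Subgroup G)

omit [Fintype G] in
theorem bij_restrict [Finite G] (hN : ∀ s g, g ∈ N → act s g ∈ N) (s : S) :
    Function.Bijective (fun n : N => (⟨act s n, hN s n n.2⟩ : N)) :=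
  Finite.injective_iff_bijective.mp fun _ _ e =>
    Subtype.ext ((act s).injective (congrArg Subtype.val e))

/-- Composition with the action preserves lying over an invariant character. -/
theorem over_comp [Fintype N] (hN : ∀ s g, g ∈ N → act s g ∈ N) (θ : N → ℂ) (s : S)
    (hS : ∀ n : N, θ ⟨act s n, hN s n n.2⟩ = θ n) (f : G → ℂ) :
    Cfsg.classInner (fun n : N => f (act s n)) θ = Cfsg.classInner (fun n : N => f n) θ := by
  simp only [Cfsg.classInner]
  congr 1
  refine Fintype.sum_bijective _ (bij_restrict act N hN s) _ _ fun n => ?_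
  rw [hS]

/-- The commutative case. -/
theorem base [N.Normal] [Fintype N] [Finite S] (S₀ : Subgroup S) [S₀.Normal]
    (hS₀ : ∀ s ∈ S₀, ∃ m ∈ N, ∀ g, act s g = m * g * m⁻¹)
    (hN : ∀ s g, g ∈ N → act s g ∈ N) (hcop : S₀.index.Coprime N.index)
    (hab : ∀ a b : G, a * b * a⁻¹ * b⁻¹ ∈ N) (θ : Cfsg.IrrCharacter N)
    (hG : ∀ g, conjC N g θ = (θ : N → ℂ))
    (hS : ∀ s (n : N), (θ : N → ℂ) ⟨act s n, hN s n n.2⟩ = (θ : N → ℂ) n) :
    ∃ χ : Cfsg.IrrCharacter G, Cfsg.classInner (fun n : N => (χ : G → ℂ) n) θ ≠ 0 ∧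
      ∀ s g, (χ : G → ℂ) (act s g) = (χ : G → ℂ) g := by
  classical
  obtain ⟨χ, hχ⟩ : ∃ χ : Cfsg.IrrCharacter G,
      Cfsg.classInner (Cfsg.indFun N (θ : N → ℂ)) χ ≠ 0 := by
    refine exists_constituent
      (Induced.Character.isCharacter_indFun N (isCharacter_irr θ)) fun h => ?_
    have h1 := congrFun h 1
    rw [indFun_one, Pi.zero_apply, mul_eq_zero, Nat.cast_eq_zero] at h1
    exact h1.elim Subgroup.index_ne_zero_of_finite (apply_one_ne_zero θ)
  rw [frobenius_reciprocity N _ (isClassFunction_irr χ)] at hχ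
  replace hχ := classInner_ne_zero_symm hχ
  have hlam : ∀ s : S, ∃ lam : G →* ℂˣ, (∀ n ∈ N, lam n = 1) ∧
      ∀ g : G, (χ : G → ℂ) (act s g) = (lam g : ℂ) * (χ : G → ℂ) g := fun s =>
    exists_mul_linear N hab θ hG χ ⟨_, Basic.isIrr_comp_equiv χ (act s)⟩ hχ
      (by
        show Cfsg.classInner (fun n : N => (χ : G → ℂ) (act s n)) θ ≠ 0
        rw [over_comp act N hN θ s (hS s)]
        exact hχ)
  choose lam hlamN hlamχ using hlam
  have := Fintype.ofFinite (S ⧸ S₀)
  obtain ⟨r, hr⟩ : ∃ r : S ⧸ S₀ → S, ∀ q, (r q : S ⧸ S₀) = q :=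
    ⟨Quotient.out, fun q => QuotientGroup.out_eq' q⟩
  have hS₀χ : ∀ t ∈ S₀, ∀ g, (χ : G → ℂ) (act t g) = (χ : G → ℂ) g := fun t ht g => by
    obtain ⟨m, -, hm⟩ := hS₀ t ht
    rw [hm]
    exact isClassFunction_irr χ g m
  -- the cocycle identity
  have hcoc : ∀ (s : S) (q : S ⧸ S₀) (g : G), (χ : G → ℂ) g ≠ 0 →
      (lam (r q) (act s g) : ℂ) * (lam s g : ℂ) = (lam (r (q * s)) g : ℂ) := by
    intro s q g hg
    have hmem : r q * s * (r (q * s))⁻¹ ∈ S₀ := by
      rw [← QuotientGroup.eq_one_iff, QuotientGroup.mk_mul, QuotientGroup.mk_mul,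
        QuotientGroup.mk_inv, hr, hr, mul_inv_cancel]
    have h1 : (χ : G → ℂ) (act (r q * s) g) = (χ : G → ℂ) (act (r (q * s)) g) := by
      have h2 := hS₀χ _ hmem (act (r (q * s)) g)
      rw [← MulAut.mul_apply, ← map_mul, inv_mul_cancel_right] at h2
      exact h2
    rw [map_mul, MulAut.mul_apply, hlamχ (r q), hlamχ s, hlamχ (r (q * s)), ← mul_assoc] at h1
    exact mul_right_cancel₀ hg h1
  set L : G →* ℂˣ := ∏ q : S ⧸ S₀, lam (r q) with hL
  have hLapply : ∀ g, (L g : ℂ) = ∏ q : S ⧸ S₀, (lam (r q) g : ℂ) := fun g => by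
    rw [hL, MonoidHom.finsetProd_apply, Units.coe_prod]
  have hprod : ∀ (s : S) (g : G), (χ : G → ℂ) g ≠ 0 →
      (L (act s g) : ℂ) * (lam s g : ℂ) ^ S₀.index = (L g : ℂ) := by
    intro s g hg
    rw [hLapply, hLapply, Subgroup.index_eq_card, Nat.card_eq_fintype_card, ← Finset.card_univ,
      ← Finset.prod_const, ← Finset.prod_mul_distrib]
    exact Fintype.prod_equiv (Equiv.mulRight (s : S ⧸ S₀)) _ _ fun q => hcoc s q g hg
  haveI : NeZero N.index := ⟨Subgroup.index_ne_zero_of_finite⟩
  obtain ⟨k, hk⟩ : ∃ k : ℕ, S₀.index * k ≡ 1 [MOD N.index] :=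
    ⟨((S₀.index : ZMod N.index)⁻¹).val, by
      rw [← ZMod.natCast_eq_natCast_iff, Nat.cast_mul, ZMod.natCast_zmod_val, Nat.cast_one]
      exact ZMod.coe_mul_inv_eq_one _ hcop⟩
  have hlampow : ∀ (s : S) (g : G), (lam s g : ℂ) ^ (S₀.index * k) = (lam s g : ℂ) := by
    intro s g
    rw [← Units.val_pow_eq_pow_val]
    congr 1
    have h1 : lam s g ^ N.index = 1 := by
      rw [← map_pow]
      exact hlamN s _ (N.pow_index_mem g)
    conv_rhs => rw [← pow_one (lam s g)]
    exact pow_eq_pow_of_modEq hk h1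
  set M : G →* ℂˣ := L ^ k with hM
  refine ⟨⟨_, isIrrCharacter_linear_mul (isCharacter_irr (linChar M)) (by simp [linChar_apply]) χ.2⟩,
    ?_, fun s g => ?_⟩
  · have : (fun n : N => ((linChar M : G → ℂ) * (χ : G → ℂ)) n) =
        fun n : N => (χ : G → ℂ) n := by
      funext n
      have h1 : L (n : G) = 1 := by
        rw [hL, MonoidHom.finsetProd_apply]
        exact Finset.prod_eq_one fun q _ => hlamN _ _ n.2
      rw [Pi.mul_apply, linChar_apply, hM, MonoidHom.pow_apply, h1, one_pow, Units.val_one, one_mul]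
    show Cfsg.classInner (fun n : N => ((linChar M : G → ℂ) * (χ : G → ℂ)) n) θ ≠ 0
    rw [this]
    exact hχ
  · show ((linChar M : G → ℂ) * (χ : G → ℂ)) (act s g) = ((linChar M : G → ℂ) * (χ : G → ℂ)) g
    rw [Pi.mul_apply, Pi.mul_apply, linChar_apply, linChar_apply, hlamχ s g, hM,
      MonoidHom.pow_apply, MonoidHom.pow_apply, Units.val_pow_eq_pow_val, Units.val_pow_eq_pow_val]
    by_cases hg : (χ : G → ℂ) g = 0
    · simp [hg]
    rw [← hprod s g hg, mul_pow, ← pow_mul, hlampow, mul_assoc]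

end action

/-- Induction from the inertia subgroup is irreducible. -/
theorem exists_induced (K : Subgroup G) [K.Normal] [Fintype K] (ψ : Cfsg.IrrCharacter K)
    (T : Subgroup G) [Fintype T] (hT : T = inertia K (ψ : K → ℂ)) (hKT : K ≤ T)
    (η : Cfsg.IrrCharacter T)
    (hη : Cfsg.classInner ((η : T → ℂ) ∘ Subgroup.inclusion hKT) ψ ≠ 0) :
    ∃ χ : Cfsg.IrrCharacter G, (χ : G → ℂ) = Cfsg.indFun T (η : T → ℂ) ∧
      Cfsg.classInner (fun k : K => (χ : G → ℂ) k) ψ ≠ 0 := by
  obtain ⟨χ, hχ⟩ : ∃ χ : Cfsg.IrrCharacter G,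
      Cfsg.classInner (Cfsg.indFun T (η : T → ℂ)) χ ≠ 0 := by
    refine exists_constituent
      (Induced.Character.isCharacter_indFun T (isCharacter_irr η)) fun h => ?_
    have h1 := congrFun h 1
    rw [indFun_one, Pi.zero_apply, mul_eq_zero, Nat.cast_eq_zero] at h1
    exact h1.elim Subgroup.index_ne_zero_of_finite (apply_one_ne_zero η)
  rw [frobenius_reciprocity T _ (isClassFunction_irr χ)] at hχ
  replace hχ := classInner_ne_zero_symm hχ
  have hcT : Cfsg.IsCharacter T ((χ : G → ℂ) ∘ T.subtype) :=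
    isCharacter_comp T.subtype (isCharacter_irr χ)
  have hover : Cfsg.classInner (fun k : K => (χ : G → ℂ) k) ψ ≠ 0 :=
    classInner_comp_ne_zero (Subgroup.inclusion hKT) hcT hχ hη
  obtain ⟨η', hη', hind, hres, hmult⟩ := exists_correspondent K χ.2 ψ hover T hT hKT
  refine ⟨χ, ?_, hover⟩
  suffices (η : T → ℂ) = η' by rw [this]; exact hind.symm
  by_contra hne
  obtain ⟨m, r, hr, hm, -, hdec⟩ := exists_eq_nsmul_add hcT η
  have hm0 : m ≠ 0 := fun h0 => hχ (hm.trans (by rw [h0, Nat.cast_zero]))
  have hrη' : Cfsg.classInner r η' ≠ 0 := by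
    have h1 : Cfsg.classInner ((χ : G → ℂ) ∘ T.subtype) η' ≠ 0 := hmult
    rw [hdec, classInner_add_left, classInner_nsmul_left,
      classInner_irr_of_ne (χ := η) (ψ := ⟨η', hη'⟩) (fun e => hne (congrArg Subtype.val e)),
      mul_zero, zero_add] at h1
    exact h1
  obtain ⟨m', r', hr', hm', -, hdec'⟩ := exists_eq_nsmul_add hr ⟨η', hη'⟩
  have hm'0 : m' ≠ 0 := fun h0 => hrη' (hm'.trans (by rw [h0, Nat.cast_zero]))
  obtain ⟨e, he⟩ := exists_classInner_nat
    (isCharacter_comp K.subtype (isCharacter_irr χ)) (isCharacter_irr ψ)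
  obtain ⟨f, hf⟩ := exists_classInner_nat
    (isCharacter_comp (Subgroup.inclusion hKT) (isCharacter_irr η)) (isCharacter_irr ψ)
  obtain ⟨j, hj⟩ := exists_classInner_nat
    (isCharacter_comp (Subgroup.inclusion hKT) hr') (isCharacter_irr ψ)
  have he' : Cfsg.classInner (fun k : K => (χ : G → ℂ) k) ψ = (e : ℂ) := he
  have hη'ψ : Cfsg.classInner (η' ∘ Subgroup.inclusion hKT) ψ = (e : ℂ) := by
    show Cfsg.classInner (fun k : K => η' ⟨(k : G), hKT k.2⟩) ψ = _
    rw [hres, classInner_smul_left, classInner_self_irr, mul_one, he']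
  have hall : (fun k : K => (χ : G → ℂ) k) = m • ((η : T → ℂ) ∘ Subgroup.inclusion hKT) +
      (m' • (η' ∘ Subgroup.inclusion hKT) + r' ∘ Subgroup.inclusion hKT) := by
    funext k
    have h1 := congrFun hdec (Subgroup.inclusion hKT k)
    rw [hdec'] at h1
    exact h1
  rw [hall, classInner_add_left, classInner_add_left, classInner_nsmul_left, classInner_nsmul_left,
    hη'ψ, hf, hj] at he'
  have hsum : m * f + (m' * e + j) = e := by exact_mod_cast he'
  have hf0 : f ≠ 0 := fun h0 => hη (hf.trans (by rw [h0, Nat.cast_zero]))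
  have h3 : 0 < m * f := Nat.pos_of_ne_zero (mul_ne_zero hm0 hf0)
  have h4 : e ≤ m' * e := Nat.le_mul_of_pos_left _ (Nat.pos_of_ne_zero hm'0)
  omega

/-- The induction. -/
theorem exists_inv_aux : ∀ (n : ℕ) {G : Type u} [Group G] [Fintype G] {S : Type w} [Group S]
    [Finite S] (act : S →* MulAut G) (N : Subgroup G) [N.Normal] [Fintype N] (S₀ : Subgroup S)
    [S₀.Normal] (_ : ∀ s ∈ S₀, ∃ m ∈ N, ∀ g, act s g = m * g * m⁻¹)
    (hN : ∀ s g, g ∈ N → act s g ∈ N) (_ : S₀.index.Coprime N.index)
    (_ : Group.IsSolvable (G ⧸ N)) (θ : Cfsg.IrrCharacter N)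
    (_ : ∀ g, conjC N g θ = (θ : N → ℂ))
    (_ : ∀ s (n : N), (θ : N → ℂ) ⟨act s n, hN s n n.2⟩ = (θ : N → ℂ) n), N.index ≤ n →
    ∃ χ : Cfsg.IrrCharacter G, Cfsg.classInner (fun n : N => (χ : G → ℂ) n) θ ≠ 0 ∧
      ∀ s g, (χ : G → ℂ) (act s g) = (χ : G → ℂ) g := by
  intro n
  induction n with
  | zero =>
    intro G _ _ S _ _ act N _ _ S₀ _ _ _ _ _ θ _ _ hn
    exact absurd (Nat.le_zero.mp hn) Subgroup.index_ne_zero_of_finite
  | succ n ih =>
    intro G _ _ S _ _ act N _ _ S₀ _ hS₀ hN hcop hsolv θ hG hS hn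
    classical
    by_cases hab : ∀ a b : G, a * b * a⁻¹ * b⁻¹ ∈ N
    · exact base act N S₀ hS₀ hN hcop hab θ hG hS
    set K : Subgroup G := commutator G ⊔ N with hKdef
    have hNK : N ≤ K := le_sup_right
    have hKne : N ≠ K := by
      intro e
      refine hab fun a b => e ▸ (le_sup_left : commutator G ≤ commutator G ⊔ N) ?_
      exact Subgroup.commutator_mem_commutator (Subgroup.mem_top a) (Subgroup.mem_top b)
    have hKtop : K ≠ ⊤ := by
      intro e
      have hnt : Nontrivial (G ⧸ N) := by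
        rw [← not_subsingleton_iff_nontrivial]
        intro hsub
        refine hab fun a b => (QuotientGroup.eq_one_iff _).mp (Subsingleton.elim _ _)
      have h1 := Group.IsSolvable.commutator_lt_top_of_nontrivial (G ⧸ N)
      refine h1.ne (top_unique fun x _ => ?_)
      obtain ⟨g, rfl⟩ := QuotientGroup.mk_surjective x
      have hg : g ∈ K := e ▸ Subgroup.mem_top g
      rw [hKdef] at hg
      obtain ⟨c, hc, m, hm, rfl⟩ := Subgroup.mem_sup_of_normal_right.mp hg
      have h2 : (commutator G).map (QuotientGroup.mk' N) ≤ commutator (G ⧸ N) := by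
        rw [commutator_def, commutator_def, Subgroup.map_commutator]
        exact Subgroup.commutator_mono le_top le_top
      rw [QuotientGroup.mk_mul, (QuotientGroup.eq_one_iff m).mpr hm, mul_one]
      exact h2 ⟨c, hc, rfl⟩
    haveI hKn : K.Normal := Subgroup.sup_normal _ _
    have hKact : ∀ s g, g ∈ K → act s g ∈ K := by
      intro s g hg
      have h1 : K.map (act s).toMonoidHom ≤ K := by
        rw [hKdef, Subgroup.map_sup]
        refine sup_le_sup ?_ ?_
        · rw [commutator_def, Subgroup.map_commutator]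
          exact Subgroup.commutator_mono le_top le_top
        · rintro _ ⟨x, hx, rfl⟩
          exact hN s x hx
      exact h1 ⟨g, hg, rfl⟩
    -- the action on `K`
    let actK : S →* MulAut K :=
      { toFun := fun s =>
          { toFun := fun k => ⟨act s k, hKact s k k.2⟩
            invFun := fun k => ⟨act s⁻¹ k, hKact s⁻¹ k k.2⟩
            left_inv := fun k => Subtype.ext (by
              show act s⁻¹ (act s k) = k
              rw [← MulAut.mul_apply, ← map_mul, inv_mul_cancel, map_one, MulAut.one_apply])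
            right_inv := fun k => Subtype.ext (by
              show act s (act s⁻¹ k) = k
              rw [← MulAut.mul_apply, ← map_mul, mul_inv_cancel, map_one, MulAut.one_apply])
            map_mul' := fun a b => Subtype.ext (map_mul (act s) _ _) }
        map_one' := MulEquiv.ext fun k => Subtype.ext (by
          show act 1 (k : G) = k
          rw [map_one, MulAut.one_apply])
        map_mul' := fun s t => MulEquiv.ext fun k => Subtype.ext (by
          show act (s * t) (k : G) = act s (act t k)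
          rw [map_mul, MulAut.mul_apply]) }
    let N' : Subgroup K := N.subgroupOf K
    haveI : N'.Normal := Subgroup.Normal.subgroupOf inferInstance K
    let eN : N' ≃* N := Subgroup.subgroupOfEquivOfLe hNK
    let θ' : Cfsg.IrrCharacter N' :=
      ⟨(θ : N → ℂ) ∘ eN.toMonoidHom, isIrrCharacter_comp _ eN.surjective θ.2⟩
    have hidx : N'.index * K.index = N.index := Subgroup.relIndex_mul_index hNK
    have hN'1 : 1 < N'.index := by
      have : N'.index ≠ 1 := fun h1 =>
        hKne (le_antisymm hNK (Subgroup.relIndex_eq_one.mp h1))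
      have := Subgroup.index_ne_zero_of_finite (H := N')
      omega
    have hK1 : 1 < K.index := by
      have : K.index ≠ 1 := fun h1 => hKtop (Subgroup.index_eq_one.mp h1)
      have := Subgroup.index_ne_zero_of_finite (H := K)
      omega
    have hsolvK : Group.IsSolvable (K ⧸ N') :=
      Group.isSolvable_of_isSolvable_injective
        (f := QuotientGroup.map N' N K.subtype le_rfl) (by
          rw [injective_iff_map_eq_one]
          intro x hx
          induction x using QuotientGroup.induction_on with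
          | _ k =>
            erw [QuotientGroup.map_mk, QuotientGroup.eq_one_iff] at hx
            exact (QuotientGroup.eq_one_iff k).mpr hx)
    obtain ⟨ψ, hψθ, hψS⟩ := ih actK N' S₀
      (fun s hs => by
        obtain ⟨m, hm, hmg⟩ := hS₀ s hs
        exact ⟨⟨m, hNK hm⟩, hm, fun k => Subtype.ext (hmg k)⟩)
      (fun s k hk => hN s k hk)
      (hcop.coprime_dvd_right (Dvd.intro _ hidx)) hsolvK θ'
      (fun g => funext fun x => congrFun (hG (g : G)) (eN x))
      (fun s x => hS s (eN x))
      (by nlinarith)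
    -- the inertia subgroup
    set T : Subgroup G := inertia K (ψ : K → ℂ) with hTdef
    have hKT : K ≤ T := le_inertia K (isClassFunction_irr ψ)
    have hTact : ∀ s g, g ∈ T → act s g ∈ T := by
      intro s g hg
      rw [hTdef, mem_inertia] at hg ⊢
      funext k
      obtain ⟨k', rfl⟩ := (actK s).surjective k
      have h1 := congrFun hg k'
      rw [conjC_apply] at h1 ⊢
      rw [hψS s k', ← h1, ← hψS s ⟨g * k' * g⁻¹, hKn.conj_mem k' k'.2 g⟩]
      refine congrArg _ (Subtype.ext ?_)
      show act s g * act s (k' : G) * (act s g)⁻¹ = act s (g * k' * g⁻¹)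
      rw [map_mul, map_mul, map_inv]
    let actT : S →* MulAut T :=
      { toFun := fun s =>
          { toFun := fun k => ⟨act s k, hTact s k k.2⟩
            invFun := fun k => ⟨act s⁻¹ k, hTact s⁻¹ k k.2⟩
            left_inv := fun k => Subtype.ext (by
              show act s⁻¹ (act s k) = k
              rw [← MulAut.mul_apply, ← map_mul, inv_mul_cancel, map_one, MulAut.one_apply])
            right_inv := fun k => Subtype.ext (by
              show act s (act s⁻¹ k) = k
              rw [← MulAut.mul_apply, ← map_mul, mul_inv_cancel, map_one, MulAut.one_apply])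
            map_mul' := fun a b => Subtype.ext (map_mul (act s) _ _) }
        map_one' := MulEquiv.ext fun k => Subtype.ext (by
          show act 1 (k : G) = k
          rw [map_one, MulAut.one_apply])
        map_mul' := fun s t => MulEquiv.ext fun k => Subtype.ext (by
          show act (s * t) (k : G) = act s (act t k)
          rw [map_mul, MulAut.mul_apply]) }
    let K' : Subgroup T := K.subgroupOf T
    haveI : K'.Normal := Subgroup.Normal.subgroupOf inferInstance T
    let eK : K' ≃* K := Subgroup.subgroupOfEquivOfLe hKT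
    let ψ' : Cfsg.IrrCharacter K' :=
      ⟨(ψ : K → ℂ) ∘ eK.toMonoidHom, isIrrCharacter_comp _ eK.surjective ψ.2⟩
    have hidxT : K'.index * T.index = K.index := Subgroup.relIndex_mul_index hKT
    have hsolvT : Group.IsSolvable (T ⧸ K') := by
      haveI : Group.IsSolvable (G ⧸ K) :=
        Group.isSolvable_of_surjective (f := QuotientGroup.map N K (MonoidHom.id G) hNK) fun x => by
          obtain ⟨g, rfl⟩ := QuotientGroup.mk_surjective x
          exact ⟨(g : G ⧸ N), rfl⟩
      refine Group.isSolvable_of_isSolvable_injective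
        (f := QuotientGroup.map K' K T.subtype le_rfl) ?_
      rw [injective_iff_map_eq_one]
      intro x hx
      induction x using QuotientGroup.induction_on with
      | _ k =>
        erw [QuotientGroup.map_mk, QuotientGroup.eq_one_iff] at hx
        exact (QuotientGroup.eq_one_iff k).mpr hx
    obtain ⟨η, hηψ, hηS⟩ := ih actT K' S₀
      (fun s hs => by
        obtain ⟨m, hm, hmg⟩ := hS₀ s hs
        exact ⟨⟨m, hKT (hNK hm)⟩, hNK hm, fun k => Subtype.ext (hmg k)⟩)
      (fun s k hk => hKact s k hk)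
      (hcop.coprime_dvd_right
        ((Dvd.intro _ hidxT).trans (Dvd.intro_left _ hidx))) hsolvT ψ'
      (fun g => funext fun x => by
        have h1 : conjC K (g : G) ψ = (ψ : K → ℂ) := mem_inertia K |>.mp g.2
        exact congrFun h1 (eK x))
      (fun s x => hψS s (eK x))
      (by
        have h1 : K'.index ≤ K.index := Nat.le_of_dvd (by omega) (Dvd.intro _ hidxT)
        have h2 : K.index < N.index := by nlinarith
        omega)
    have hη' : Cfsg.classInner ((η : T → ℂ) ∘ Subgroup.inclusion hKT) ψ ≠ 0 := by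
      have : Cfsg.classInner ((η : T → ℂ) ∘ Subgroup.inclusion hKT) ψ =
          Cfsg.classInner (fun x : K' => (η : T → ℂ) x) ψ' := by
        simp only [Cfsg.classInner, Nat.card_congr eK.toEquiv]
        congr 1
        exact (Fintype.sum_equiv eK.toEquiv _ _ fun x => rfl).symm
      rwa [this]
    obtain ⟨χ, hχ, hover⟩ := exists_induced K ψ T rfl hKT η hη'
    refine ⟨χ, ?_, fun s g => ?_⟩
    · have hψθ' : Cfsg.classInner ((ψ : K → ℂ) ∘ Subgroup.inclusion hNK) θ ≠ 0 := by
        have : Cfsg.classInner ((ψ : K → ℂ) ∘ Subgroup.inclusion hNK) θ =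
            Cfsg.classInner (fun x : N' => (ψ : K → ℂ) x) θ' := by
          simp only [Cfsg.classInner, Nat.card_congr eN.toEquiv]
          congr 1
          exact (Fintype.sum_equiv eN.toEquiv _ _ fun x => rfl).symm
        rwa [this]
      exact classInner_comp_ne_zero (Subgroup.inclusion hNK)
        (isCharacter_comp K.subtype (isCharacter_irr χ)) hover hψθ'
    · rw [hχ, Cfsg.indFun, Cfsg.indFun]
      congr 1
      refine (Fintype.sum_equiv (act s).toEquiv _ _ fun x => ?_).symm
      show Cfsg.extendByZero T (η : T → ℂ) (x⁻¹ * g * x) =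
        Cfsg.extendByZero T (η : T → ℂ) ((act s x)⁻¹ * act s g * act s x)
      rw [← map_inv, ← map_mul, ← map_mul]
      by_cases hx : x⁻¹ * g * x ∈ T
      · rw [extendByZero_of_mem _ _ hx, extendByZero_of_mem _ _ (hTact s _ hx)]
        exact (hηS s ⟨_, hx⟩).symm
      · rw [extendByZero_of_not_mem _ _ hx, extendByZero_of_not_mem _ _ fun h1 => hx ?_]
        have h2 := hTact s⁻¹ _ h1
        rwa [← MulAut.mul_apply, ← map_mul, inv_mul_cancel, map_one, MulAut.one_apply] at h2

/-- An invariant character lies under an invariant one. -/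
theorem exists_inv {S : Type w} [Group S] [Finite S] (act : S →* MulAut G) (N : Subgroup G)
    [N.Normal] [Fintype N] (S₀ : Subgroup S) [S₀.Normal]
    (hS₀ : ∀ s ∈ S₀, ∃ m ∈ N, ∀ g, act s g = m * g * m⁻¹)
    (hN : ∀ s g, g ∈ N → act s g ∈ N) (hcop : S₀.index.Coprime N.index)
    (hsolv : Group.IsSolvable (G ⧸ N)) (θ : Cfsg.IrrCharacter N)
    (hG : ∀ g, conjC N g θ = (θ : N → ℂ))
    (hS : ∀ s (n : N), (θ : N → ℂ) ⟨act s n, hN s n n.2⟩ = (θ : N → ℂ) n) :
    ∃ χ : Cfsg.IrrCharacter G, Cfsg.classInner (fun n : N => (χ : G → ℂ) n) θ ≠ 0 ∧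
      ∀ s g, (χ : G → ℂ) (act s g) = (χ : G → ℂ) g :=
  exists_inv_aux N.index act N S₀ hS₀ hN hcop hsolv θ hG hS le_rfl

end Cfsg.Agent.Lib.InvariantAbove.Solvable
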